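import Cfsg.Agent.H779.G2.Grp
import Cfsg.Agent.H756.PU.Engine
import Cfsg.Prelude.Def_G2

/-!
# S5211: the concrete statements

Plan: `outputs/live/tools/plans/S5211.md`. Engine: `Cfsg.Agent.H756.PU` (file `H756/PU/Engine.lean`).
-/

set_option autoImplicit false

namespace Cfsg.Agent.H779.G2

open Cfsg Cfsg.FusionSystem Cfsg.Agent.H756.PU

universe u v

/-- the field: `K` has `pⁿ` elements -/
structure HypG (K : Type u) [Field K] (p n : ℕ) : Prop where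
  pp : p.Prime
  hn : 1 ≤ n
  fin : Finite K
  card : Nat.card K = p ^ n
  char : CharP K p

section
variable (K : Type u) [Field K]

/-- `X_{3α+2β}`, of order `q` -/
def Z1 : Subgroup (GU K) where
  carrier := {g | g.a = 0 ∧ g.b = 0 ∧ g.c = 0 ∧ g.d = 0 ∧ g.e = 0}
  one_mem' := by simp
  mul_mem' := by
    rintro x y ⟨h1, h2, h3, h4, h5⟩ ⟨k1, k2, k3, k4, k5⟩
    simp [h1, h2, h3, h4, h5, k1, k2, k3, k4, k5]
  inv_mem' := by
    rintro x ⟨h1, h2, h3, h4, h5⟩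
    simp [h1, h2, h3, h4, h5]

/-- `⟨X_{3α+β}, X_{3α+2β}⟩`, of order `q²` -/
def Z2 : Subgroup (GU K) where
  carrier := {g | g.a = 0 ∧ g.b = 0 ∧ g.c = 0 ∧ g.d = 0}
  one_mem' := by simp
  mul_mem' := by
    rintro x y ⟨h1, h2, h3, h4⟩ ⟨k1, k2, k3, k4⟩
    simp [h1, h2, h3, h4, k1, k2, k3, k4]
  inv_mem' := by
    rintro x ⟨h1, h2, h3, h4⟩
    simp [h1, h2, h3, h4]

/-- `⟨X_{2α+β}, X_{3α+β}, X_{3α+2β}⟩`, of order `q³` -/
def Z3 : Subgroup (GU K) where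
  carrier := {g | g.a = 0 ∧ g.b = 0 ∧ g.c = 0}
  one_mem' := by simp
  mul_mem' := by
    rintro x y ⟨h1, h2, h3⟩ ⟨k1, k2, k3⟩
    simp [h1, h2, h3, k1, k2, k3]
  inv_mem' := by
    rintro x ⟨h1, h2, h3⟩
    simp [h1, h2, h3]

/-- `⟨X_{α+β}, X_{2α+β}, X_{3α+β}, X_{3α+2β}⟩`, of order `q⁴` (elementary abelian for `p = 3`) -/
def Z4 : Subgroup (GU K) where
  carrier := {g | g.a = 0 ∧ g.b = 0}
  one_mem' := by simp
  mul_mem' := by
    rintro x y ⟨h1, h2⟩ ⟨k1, k2⟩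
    simp [h1, h2, k1, k2]
  inv_mem' := by
    rintro x ⟨h1, h2⟩
    simp [h1, h2]

/-- `Q_a = {a = 0}`, the unipotent radical of the parabolic of the short root `α` -/
def Qa : Subgroup (GU K) where
  carrier := {g | g.a = 0}
  one_mem' := by simp
  mul_mem' := by
    rintro x y h1 k1
    have h1' : x.a = 0 := h1
    have k1' : y.a = 0 := k1
    simp [h1', k1']
  inv_mem' := by
    rintro x h1
    have h1' : x.a = 0 := h1
    simp [h1']

/-- `Q_b = {b = 0}`, the unipotent radical of the parabolic of the long root `β` -/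
def Qb : Subgroup (GU K) where
  carrier := {g | g.b = 0}
  one_mem' := by simp
  mul_mem' := by
    rintro x y h1 k1
    have h1' : x.b = 0 := h1
    have k1' : y.b = 0 := k1
    simp [h1', k1']
  inv_mem' := by
    rintro x h1
    have h1' : x.b = 0 := h1
    simp [h1']

end

/-! ### The standard torus, field and graph automorphisms, Weyl elements -/

section
variable {K : Type u} [Field K]

/-- the automorphism of `GU K` given by a torus element (weights `s` on `X_α`, `t` on `X_β`) after a field automorphism -/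
structure IsTor (α : MulAut (GU K)) (s t : K) (τ : K ≃+* K) : Prop where
  ne1 : s ≠ 0
  ne2 : t ≠ 0
  a : ∀ g : GU K, (α g).a = s * τ g.a
  b : ∀ g : GU K, (α g).b = t * τ g.b
  c : ∀ g : GU K, (α g).c = s * t * τ g.c
  d : ∀ g : GU K, (α g).d = s ^ 2 * t * τ g.d
  e : ∀ g : GU K, (α g).e = s ^ 3 * t * τ g.e
  f : ∀ g : GU K, (α g).f = s ^ 3 * t ^ 2 * τ g.f

/-- the graph automorphism (characteristic `3` only) -/
structure IsGr (α : MulAut (GU K)) : Prop where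
  three : (3 : K) = 0
  a : ∀ g : GU K, (α g).a = g.b
  b : ∀ g : GU K, (α g).b = g.a ^ 3
  c : ∀ g : GU K, (α g).c = g.a ^ 3 * g.b - g.e
  d : ∀ g : GU K, (α g).d = g.a ^ 3 * g.b ^ 2 - g.f
  e : ∀ g : GU K, (α g).e = g.a ^ 3 * g.b ^ 3 - g.c ^ 3
  f : ∀ g : GU K, (α g).f = g.a ^ 6 * g.b ^ 3 - g.d ^ 3

variable (K) in
/-- the group generated by all these automorphisms -/
def TT : Subgroup (MulAut (GU K)) :=
  Subgroup.closure ({α | ∃ s t τ, IsTor α s t τ} ∪ {α | IsGr α})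

/-- `γ` is the restriction of `α` to `Q` -/
def IsR (α : MulAut (GU K)) {Q : Subgroup (GU K)} (γ : MulAut Q) : Prop := ∀ e : Q, ((γ e : Q) : GU K) = α e

/-- the Weyl element of `SL₂(K)` on `Q_b` (long root) -/
structure IsWb (γ : MulAut (Qb K)) : Prop where
  a : ∀ g : Qb K, ((γ g : Qb K) : GU K).a = - (g : GU K).c
  c : ∀ g : Qb K, ((γ g : Qb K) : GU K).c = (g : GU K).a
  d : ∀ g : Qb K, ((γ g : Qb K) : GU K).d = (g : GU K).d - 2 * (g : GU K).a * (g : GU K).c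
  e : ∀ g : Qb K, ((γ g : Qb K) : GU K).e = - (g : GU K).f + 3 * (g : GU K).a * (g : GU K).c ^ 2
  f : ∀ g : Qb K, ((γ g : Qb K) : GU K).f = (g : GU K).e - 3 * (g : GU K).a ^ 2 * (g : GU K).c

/-- the Weyl element of `SL₂(K)` on `Q_a` (short root) -/
structure IsWa (γ : MulAut (Qa K)) : Prop where
  b : ∀ g : Qa K, ((γ g : Qa K) : GU K).b = (g : GU K).e
  c : ∀ g : Qa K, ((γ g : Qa K) : GU K).c = - (g : GU K).d
  d : ∀ g : Qa K, ((γ g : Qa K) : GU K).d = (g : GU K).c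
  e : ∀ g : Qa K, ((γ g : Qa K) : GU K).e = - (g : GU K).b
  f : ∀ g : Qa K, ((γ g : Qa K) : GU K).f =
    (g : GU K).f + (g : GU K).b * (g : GU K).e - 3 * (g : GU K).c * (g : GU K).d

/-- the standard automizer: generated by `Aut_S(Q)`, the Weyl element and the restrictions of `D` -/
def Gen {Q : Subgroup (GU K)} (W : MulAut Q → Prop) (D : Subgroup (MulAut (GU K))) : Subgroup (MulAut Q) :=
  Subgroup.closure ((autInducedBy ⊤ Q : Set (MulAut Q)) ∪ {γ | W γ} ∪ {γ | ∃ d ∈ D, IsR d γ})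

/-- `Γ = Aut_F(Q)` for a parabolic `Q` whose Sylow subgroup is not normal, and `D` the `p'`-part of `Aut_F(S)` -/
structure Par (p : ℕ) (Q : Subgroup (GU K)) (Γ : Subgroup (MulAut Q)) (D : Subgroup (MulAut (GU K))) : Prop where
  indu : autInducedBy ⊤ Q ≤ Γ
  syl : ∀ P : Subgroup (MulAut Q), P ≤ Γ → IsPGroup p P → ∃ g ∈ Γ, ∀ x ∈ P, g * x * g⁻¹ ∈ autInducedBy ⊤ Q
  nn : ¬ ∀ γ ∈ Γ, NormAut ⊤ γ
  D_le : D ≤ TT K
  D_cop : (Nat.card D).Coprime p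
  D_res : ∀ d ∈ D, ∀ γ : MulAut Q, IsR d γ → γ ∈ Γ
  norm : ∀ γ ∈ Γ, NormAut ⊤ γ → ∃ x : GU K, ∃ d ∈ D, ∀ e : Q, ((γ e : Q) : GU K) = x * d e * x⁻¹

/-- `D` contains all the automorphisms `tor(f t, g t)`, `t ≠ 0` -/
def HasTor (D : Subgroup (MulAut (GU K))) (f g : K → K) : Prop :=
  ∀ t : K, t ≠ 0 → ∀ α : MulAut (GU K), IsTor α (f t) (g t) (RingEquiv.refl K) → α ∈ D

/-- `D` contains the whole torus -/
def Full (D : Subgroup (MulAut (GU K))) : Prop :=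
  ∀ s t : K, ∀ α : MulAut (GU K), IsTor α s t (RingEquiv.refl K) → α ∈ D

end

/-! ### Infrastructure -/

/-- (SYL) -/
def StSyl : Prop :=
  ∀ {K : Type u} [Field K] {p n : ℕ} [Fact p.Prime], HypG K p n →
    ∀ T : Sylow p (Cfsg.Lie.G2 K), Nonempty (↥(T : Subgroup (Cfsg.Lie.G2 K)) ≃* GU K)

/-- (GRP) `GU K` is a finite `p`-group of order `q^6`; all the automorphisms exist -/
def StGrp : Prop :=
  ∀ {K : Type u} [Field K] {p n : ℕ}, HypG K p n →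
    Nat.card (GU K) = (p ^ n) ^ 6 ∧ IsPGroup p (⊤ : Subgroup (GU K)) ∧
    (∀ (s t : K) (τ : K ≃+* K), s ≠ 0 → t ≠ 0 → ∃ α, IsTor α s t τ) ∧ (p = 3 → ∃ α : MulAut (GU K), IsGr α) ∧
    (∀ α ∈ TT K, (∃ s t τ, IsTor α s t τ) ∨ ∃ s t τ, ∃ α' ρ, IsTor α' s t τ ∧ IsGr ρ ∧ α = α' * ρ) ∧
    (∃ γ : MulAut (Qb K), IsWb γ) ∧ (∃ γ : MulAut (Qa K), IsWa γ)

/-- (TI) `Aut_S(Q)` is TI modulo `Inn(Q)` as soon as it is a Sylow subgroup, `Q = Q_a, Q_b`; `Q` is centric; for `p ≠ 3`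
and for `p ^ n > 2` both are invariant under all automorphisms of `GU K`, for `p = 3` they may be swapped -/
def StTI : Prop :=
  ∀ {K : Type u} [Field K] {p n : ℕ}, HypG K p n → 2 < p ^ n → ∀ Q : Subgroup (GU K), (Q = Qa K ∨ Q = Qb K) →
    (∀ Γ : Subgroup (MulAut Q), autInducedBy ⊤ Q ≤ Γ →
      (∀ P : Subgroup (MulAut Q), P ≤ Γ → IsPGroup p P → ∃ g ∈ Γ, ∀ x ∈ P, g * x * g⁻¹ ∈ autInducedBy ⊤ Q) →
      TIAut (⊤ : Subgroup (GU K)) Γ) ∧
    centralizerIn ⊤ Q ≤ Q ∧ Q ≠ ⊤ ∧ (p ≠ 3 → ∀ α : MulAut (GU K), Q.map α.toMonoidHom = Q) ∧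
    (∀ α : MulAut (GU K), Q.map α.toMonoidHom = Qa K ∨ Q.map α.toMonoidHom = Qb K)

/-- (POS) every `p'`-group of automorphisms of `GU K` is conjugate into `TT K` -/
def StPos : Prop :=
  ∀ {K : Type u} [Field K] {p n : ℕ}, HypG K p n → 2 < p ^ n → ∀ D : Subgroup (MulAut (GU K)),
    (Nat.card D).Coprime p → ∃ θ : MulAut (GU K), ∀ d ∈ D, θ * d * θ⁻¹ ∈ TT K

/-- (REAL) -/
def StReal : Prop :=
  ∀ {K : Type u} [Field K] {p n : ℕ} [Fact p.Prime], HypG K p n → ∀ D : Subgroup (MulAut (GU K)),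
    D ≤ TT K → (Nat.card D).Coprime p → Full D →
    ∃ F : FusionSystem (⊤ : Subgroup (GU K)), F.IsSaturated p ∧ F.IsRealizable p ∧
      AF F = (MulAut.conj : GU K →* MulAut (GU K)).range ⊔ D ∧
      (∀ γ : MulAut (Qa K), IsWa γ → γ ∈ F.autGroup (Qa K)) ∧
      (∀ γ : MulAut (Qb K), IsWb γ → γ ∈ F.autGroup (Qb K))

/-! ### Essential subgroups -/

/-- (NEG) addition to the engine: in the situation of `StFF` with `p` odd there is a `p'`-element `γ` of the subgroup generated by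
the conjugates of `Aut_S(E)`, centralizing `Aut_S(E)` modulo `Inn(E)`, which inverts `M` modulo `D`, where `D/N` is the
centralizer in `M/N` of that subgroup, and centralizes `D/N` -/
def StNeg : Prop :=
  ∀ {Ω : Type u} [Group Ω] {S E : Subgroup Ω} {p : ℕ} {Γ : Subgroup (MulAut E)}, Ess S E p Γ → p ≠ 2 →
    ∀ N M X A : Subgroup Ω, Inv Γ N → Inv Γ M → N ≤ M → X ≤ M → Com E M N → (∀ m ∈ M, m ^ p ∈ N) →
    M = hull Γ X ⊔ N → Com (normalizerIn S E) X N →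
    A ≤ normalizerIn S E → ¬ A ≤ E → Com A A E → (∀ x ∈ A, x ^ p ∈ E) → Com A E M →
    (∀ x ∈ A, ∀ m ∈ N, x * m = m * x) →
    (cmod A M N).relIndex M ≤ E.relIndex A →
    ∃ D : Subgroup Ω, Inv Γ D ∧ N ≤ D ∧ D ≤ M ∧ Com (normalizerIn S E) D N ∧ D.relIndex M = (E.relIndex A) ^ 2 ∧
    ∃ γ ∈ Subgroup.closure {x : MulAut E | ∃ g ∈ Γ, ∃ y ∈ autInducedBy S E, x = g * y * g⁻¹},
      (orderOf γ).Coprime p ∧ (∀ x ∈ autInducedBy S E, γ * x * γ⁻¹ * x⁻¹ ∈ Inn E) ∧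
      (∀ m : E, (m : Ω) ∈ M → ((γ m * m : E) : Ω) ∈ D) ∧ (∀ m : E, (m : Ω) ∈ D → ((γ m * m⁻¹ : E) : Ω) ∈ N)

/-- (DUAL) the dual bound: if `A ≤ N_S(E)` and `[E, A] ≤ W·Φ(E)` then `|A : A ∩ E| ≤ |W Φ(E) : Φ(E)|` -/
def StDual : Prop :=
  ∀ {Ω : Type u} [Group Ω] {S E : Subgroup Ω} {p : ℕ} {Γ : Subgroup (MulAut E)}, Ess S E p Γ →
    ∀ W A : Subgroup Ω, A ≤ normalizerIn S E → W ≤ E → Com A E (W ⊔ (frattini E).map E.subtype) →
    E.relIndex A ≤ ((frattini E).map E.subtype).relIndex (W ⊔ (frattini E).map E.subtype)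

/-- (KB) the bound: if `A ≤ N_S(E)`, `A ≰ E` and `C ≤ E` is centralized by `A` modulo `Φ(E)`
then `|A : A ∩ E| ≤ |E : C Φ(E)|` -/
def StKB : Prop :=
  ∀ {Ω : Type u} [Group Ω] {S E : Subgroup Ω} {p : ℕ} {Γ : Subgroup (MulAut E)}, Ess S E p Γ →
    ∀ C A : Subgroup Ω, A ≤ normalizerIn S E → ¬ A ≤ E → C ≤ E → Com A C ((frattini E).map E.subtype) →
    E.relIndex A ≤ (C ⊔ (frattini E).map E.subtype).relIndex E

/-- (EXT) extension of automorphisms (Alperin): if no essential subgroup contains a conjugate of `R` then every `F`-automorphism of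
`R` extends to `S`; more generally if all essential subgroups containing a conjugate of `R` are equal to `Q` and `Q` is
`Aut_F(S)`-invariant, then every `F`-automorphism of `R ≤ Q` extends to `Q` -/
def StExt : Prop :=
  ∀ {G0 : Type u} [Group G0] [Finite G0] {p : ℕ} [Fact p.Prime] (F : FusionSystem (⊤ : Subgroup G0)),
    IsPGroup p (⊤ : Subgroup G0) → F.IsSaturated p → ∀ R Q : Subgroup G0, R ≤ Q →
    (∀ E, F.IsEssential p E → (∃ R', F.IsConj R R' ∧ R' ≤ E) → E = Q) → (∀ α ∈ AF F, Q.map α.toMonoidHom = Q) →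
    ∀ γ ∈ F.autGroup R, ∃ δ ∈ F.autGroup Q, ∀ (x : R) (y : Q), (x : G0) = y → ((δ y : Q) : G0) = ((γ x : R) : G0)

/-- (NEXT) saturation: `γ ∈ Aut_F(E)`, `E` essential, normalizing `Aut_S(E)` extends to `N_S(E)` -/
def StNExt : Prop :=
  ∀ {G0 : Type u} [Group G0] [Finite G0] {p : ℕ} [Fact p.Prime] (F : FusionSystem (⊤ : Subgroup G0)),
    IsPGroup p (⊤ : Subgroup G0) → F.IsSaturated p → ∀ E : Subgroup G0, F.IsEssential p E →
    ∀ γ ∈ F.autGroup E, NormAut (⊤ : Subgroup G0) γ →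
    ∃ δ ∈ F.autGroup (normalizerIn ⊤ E), ∀ (x : E) (y : ↥(normalizerIn ⊤ E)), (x : G0) = y →
      ((δ y : ↥(normalizerIn ⊤ E)) : G0) = ((γ x : E) : G0)

/-- (Ea) `p ≠ 3`: essential subgroups of `Q_a` -/
def StEa : Prop :=
  ∀ {K : Type u} [Field K] {p n : ℕ}, HypG K p n → p ≠ 3 → 2 < p ^ n →
    ∀ {E : Subgroup (GU K)} {Γ : Subgroup (MulAut E)}, Ess (⊤ : Subgroup (GU K)) E p Γ → E ≤ Qa K → E = Qa K

/-- (E5b) `p ≥ 5`, `Z₃ ≤ E ≤ Q_b` -/
def StE5b : Prop :=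
  ∀ {K : Type u} [Field K] {p n : ℕ}, HypG K p n → 5 ≤ p →
    ∀ {E : Subgroup (GU K)} {Γ : Subgroup (MulAut E)}, Ess (⊤ : Subgroup (GU K)) E p Γ → Z3 K ≤ E → E ≤ Qb K →
    ¬ E ≤ Qa K → E = Qb K

/-- (E5c) `p ≥ 5`, `Z₃ ≤ E ≰ Q_a, Q_b` -/
def StE5c : Prop :=
  ∀ {K : Type u} [Field K] {p n : ℕ}, HypG K p n → 5 ≤ p →
    ∀ {E : Subgroup (GU K)} {Γ : Subgroup (MulAut E)}, Ess (⊤ : Subgroup (GU K)) E p Γ → Z3 K ≤ E → ¬ E ≤ Qb K →
    ¬ E ≤ Qa K → Qb K ≤ E ∧ Inv Γ (Qb K)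

/-- (E5) `p ≥ 5`: the essential subgroups -/
def StE5 : Prop :=
  ∀ {K : Type u} [Field K] {p n : ℕ} [Fact p.Prime], HypG K p n → 5 ≤ p → ¬ (p = 7 ∧ n = 1) →
    ∀ (F : FusionSystem (⊤ : Subgroup (GU K))), F.IsSaturated p → ∀ E, F.IsEssential p E → E = Qa K ∨ E = Qb K

/-- (E3) `p = 3` -/
def StE3 : Prop :=
  ∀ {K : Type u} [Field K] {p n : ℕ} [Fact p.Prime], HypG K p n → p = 3 →
    ∀ (F : FusionSystem (⊤ : Subgroup (GU K))), F.IsSaturated p → ∀ E, F.IsEssential p E → E = Qa K ∨ E = Qb K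

/-- (E2) `p = 2`, `q ≥ 4` -/
def StE2 : Prop :=
  ∀ {K : Type u} [Field K] {p n : ℕ} [Fact p.Prime], HypG K p n → p = 2 → 2 ≤ n →
    ∀ (F : FusionSystem (⊤ : Subgroup (GU K))), F.IsSaturated p → ∀ E, F.IsEssential p E → E = Qa K ∨ E = Qb K

/-! ### The parabolics -/

/-- (Lb) the long root parabolic, `q ≥ 5` -/
def StLb : Prop :=
  ∀ {K : Type u} [Field K] {p n : ℕ}, HypG K p n → 5 ≤ p ^ n →
    ∀ (Γ : Subgroup (MulAut (Qb K))) (D : Subgroup (MulAut (GU K))), Par p (Qb K) Γ D →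
    HasTor D (fun t => t⁻¹) (fun t => t ^ 2) ∧ (Full D → Γ = Gen IsWb D)

/-- (La) the short root parabolic, `q ≥ 8` -/
def StLa : Prop :=
  ∀ {K : Type u} [Field K] {p n : ℕ}, HypG K p n → 8 ≤ p ^ n →
    ∀ (Γ : Subgroup (MulAut (Qa K))) (D : Subgroup (MulAut (GU K))), Par p (Qa K) Γ D →
    HasTor D (fun t => t ^ 2) (fun t => (t ^ 3)⁻¹) ∧ (Full D → Γ = Gen IsWa D)

/-- (MAIN, per class of `q`) -/
def StMain (P : ℕ → ℕ → Prop) : Prop :=
  ∀ {K : Type u} [Field K] {p n : ℕ} [Fact p.Prime], HypG K p n → P p n →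
    ∀ (F : FusionSystem (⊤ : Subgroup (GU K))), F.IsSaturated p → F.core = ⊥ → F.IsRealizable p

/-- `q ≥ 8` -/
def StMainBig : Prop := StMain.{u} (fun p n => 8 ≤ p ^ n)
/-- `q = 5` -/
def StMain5 : Prop := StMain.{u} (fun p n => p = 5 ∧ n = 1)
/-- `q = 4` -/
def StMain4 : Prop := StMain.{u} (fun p n => p = 2 ∧ n = 2)
/-- `q = 3` -/
def StMain3 : Prop := StMain.{u} (fun p n => p = 3 ∧ n = 1)
/-- `q = 2` -/
def StMain2 : Prop := StMain.{u} (fun p n => p = 2 ∧ n = 1)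

end Cfsg.Agent.H779.G2
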