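import Cfsg.Agent.H779.G2.Stmts2

/-!
# S5211: statements, third part (`p = 2`, the short root parabolic, `q = 4`, `q = 3`)
-/

set_option autoImplicit false

namespace Cfsg.Agent.H779.G2

open Cfsg Cfsg.FusionSystem Cfsg.Agent.H756.PU

universe u v

/-- (E2b) `p = 2`, `q ≥ 4`, `E ≤ Q_b` -/
def StE2b : Prop :=
  ∀ {K : Type u} [Field K] {n : ℕ}, HypG K 2 n → 2 ≤ n →
    ∀ {E : Subgroup (GU K)} {Γ : Subgroup (MulAut E)}, Ess (⊤ : Subgroup (GU K)) E 2 Γ → E ≤ Qb K →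
    ¬ E ≤ Qa K → E = Qb K

/-- (E2c) `p = 2`, `q ≥ 4`, `E ≰ Q_a, Q_b` -/
def StE2c : Prop :=
  ∀ {K : Type u} [Field K] {n : ℕ}, HypG K 2 n → 2 ≤ n →
    ∀ {E : Subgroup (GU K)} {Γ : Subgroup (MulAut E)}, Ess (⊤ : Subgroup (GU K)) E 2 Γ → ¬ E ≤ Qb K →
    ¬ E ≤ Qa K → Qb K ≤ E ∧ Inv Γ (Qb K)

/-- (SEM) automorphisms of `Q_a`, `p ≠ 3`, are semilinear on `Q_a / Z₁ = K⁴`, with the same field automorphism on `Z₁`
and multiply the form: `γ` acts on `Z₁` as `m·τ` -/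
def StSem : Prop :=
  ∀ {K : Type u} [Field K] {p n : ℕ}, HypG K p n → p ≠ 3 → ∀ γ : MulAut (Qa K),
    ∃ (τ : K ≃+* K) (M : Matrix (Fin 4) (Fin 4) K) (m : K), m ≠ 0 ∧
      (∀ g : Qa K, ((γ g : Qa K) : GU K).b = M 0 0 * τ (g : GU K).b + M 0 1 * τ (g : GU K).c + M 0 2 * τ (g : GU K).d
        + M 0 3 * τ (g : GU K).e) ∧
      (∀ g : Qa K, ((γ g : Qa K) : GU K).c = M 1 0 * τ (g : GU K).b + M 1 1 * τ (g : GU K).c + M 1 2 * τ (g : GU K).d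
        + M 1 3 * τ (g : GU K).e) ∧
      (∀ g : Qa K, ((γ g : Qa K) : GU K).d = M 2 0 * τ (g : GU K).b + M 2 1 * τ (g : GU K).c + M 2 2 * τ (g : GU K).d
        + M 2 3 * τ (g : GU K).e) ∧
      (∀ g : Qa K, ((γ g : Qa K) : GU K).e = M 3 0 * τ (g : GU K).b + M 3 1 * τ (g : GU K).c + M 3 2 * τ (g : GU K).d
        + M 3 3 * τ (g : GU K).e) ∧
      (∀ g : Qa K, (g : GU K) ∈ Z1 K → ((γ g : Qa K) : GU K) ∈ Z1 K ∧ ((γ g : Qa K) : GU K).f = m * τ (g : GU K).f)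

/-- (U2) the abstract rank one identification, `p ≥ 5`, noncyclic case: a finite group with a non-normal elementary abelian TI Sylow
`p`-subgroup of order `q = pⁿ`, `n ≥ 2`, whose normalizer is transitive on `P ∖ 1`, of order dividing that of `ΓSp₄(q)` -/
def StU2 : Prop :=
  ∀ {G : Type u} [Group G] [Finite G] {p n : ℕ} [Fact p.Prime] (P : Sylow p G), 5 ≤ p → 2 ≤ n →
    (∀ g : G, g ∉ Subgroup.normalizer ((P : Subgroup G) : Set G) → ∀ x ∈ (P : Subgroup G), g * x * g⁻¹ ∈ (P : Subgroup G) →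
      x = 1) →
    ¬ (P : Subgroup G).Normal → Nat.card P = p ^ n → (∀ x ∈ (P : Subgroup G), x ^ p = 1) →
    (∀ x ∈ (P : Subgroup G), ∀ y ∈ (P : Subgroup G), x * y = y * x) →
    (∀ x ∈ (P : Subgroup G), ∀ y ∈ (P : Subgroup G), x ≠ 1 → y ≠ 1 →
      ∃ g ∈ Subgroup.normalizer ((P : Subgroup G) : Set G), g * x * g⁻¹ = y) →
    Nat.card (Subgroup.normalClosure ((P : Subgroup G) : Set G)) ∣ (p ^ n) ^ 4 * ((p ^ n) ^ 2 - 1) * ((p ^ n) ^ 4 - 1) →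
    (∀ P' P'' : Sylow p G, P' ≠ P → P'' ≠ P → ∃ x ∈ (P : Subgroup G),
      (P' : Subgroup G).map (MulAut.conj x).toMonoidHom = P'') ∧
    (∀ P' : Sylow p G, P' ≠ P → ∃ x y : G, x ∈ (P : Subgroup G) ∧ x ≠ 1 ∧ y ∈ (P' : Subgroup G) ∧
      (P : Subgroup G).map (MulAut.conj (x * y * x)).toMonoidHom = P' ∧
      (P' : Subgroup G).map (MulAut.conj (x * y * x)).toMonoidHom = P) ∧
    (∃ h ∈ Subgroup.normalizer ((P : Subgroup G) : Set G), h ∈ Subgroup.normalClosure ((P : Subgroup G) : Set G) ∧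
      ∀ k : ℕ, 0 < k → 2 * k < p ^ n - 1 → ∀ x ∈ (P : Subgroup G), x ≠ 1 → h ^ k * x * (h ^ k)⁻¹ ≠ x)

/-- the matrix of `x_α(u)` on `Q_a / Z₁` (conjugation), basis `b, c, d, e`, column vectors -/
def Xm {K : Type u} [Field K] (t : K) : Matrix (Fin 4) (Fin 4) K :=
  !![1, 0, 0, 0; -t, 1, 0, 0; t ^ 2, -2 * t, 1, 0; -t ^ 3, 3 * t ^ 2, -3 * t, 1]

/-- the matrix of the commutator form of `Q_a` on `Q_a / Z₁` -/
def Om {K : Type u} [Field K] : Matrix (Fin 4) (Fin 4) K :=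
  !![0, 0, 0, 1; 0, 0, -3, 0; 0, 3, 0, 0; -1, 0, 0, 0]

/-- (U2P) the rank one identification for `q = p ≥ 11` (from S5787, S5788): same conclusion as `StU2`, for a subgroup `L` of `Sp₄(p)`
containing the `x_α(u)` -/
def StU2P : Prop :=
  ∀ {K : Type u} [Field K] {p : ℕ} [Fact p.Prime], HypG K p 1 → 11 ≤ p →
    ∀ (L : Subgroup (GL (Fin 4) K)), (∀ g ∈ L, (g : Matrix (Fin 4) (Fin 4) K).transpose * Om * (g : Matrix (Fin 4) (Fin 4) K) = Om) →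
    ¬ p ^ 2 ∣ Nat.card L → ∀ P : Sylow p L, (∀ g : L, g ∈ (P : Subgroup L) ↔ ∃ t : K, ((g : GL (Fin 4) K) : Matrix (Fin 4) (Fin 4) K) = Xm t) →
    ¬ (P : Subgroup L).Normal →
    (∃ g ∈ L, ∃ i : Fin 4, i ≠ 3 ∧ (g : Matrix (Fin 4) (Fin 4) K) i 3 ≠ 0) →
    (∃ g ∈ L, ∃ i j : Fin 4, (i : ℕ) < 2 ∧ 2 ≤ (j : ℕ) ∧ (g : Matrix (Fin 4) (Fin 4) K) i j ≠ 0) →
    (∀ P' P'' : Sylow p L, P' ≠ P → P'' ≠ P → ∃ x ∈ (P : Subgroup L),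
      (P' : Subgroup L).map (MulAut.conj x).toMonoidHom = P'') ∧
    (∀ P' : Sylow p L, P' ≠ P → ∃ x y : L, x ∈ (P : Subgroup L) ∧ x ≠ 1 ∧ y ∈ (P' : Subgroup L) ∧
      (P : Subgroup L).map (MulAut.conj (x * y * x)).toMonoidHom = P' ∧
      (P' : Subgroup L).map (MulAut.conj (x * y * x)).toMonoidHom = P) ∧
    (∃ h ∈ Subgroup.normalizer ((P : Subgroup L) : Set L),
      ∀ k : ℕ, 0 < k → 2 * k < p - 1 → ∀ x ∈ (P : Subgroup L), x ≠ 1 → h ^ k * x * (h ^ k)⁻¹ ≠ x)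

/-- (WFIN) end of `StLa`, `p ≠ 3`, `q ≥ 5`: if `Γ` contains an element acting as the Weyl element on `Q_a/Z₁` then `Γ = Gen` -/
def StWFin : Prop :=
  ∀ {K : Type u} [Field K] {p n : ℕ}, HypG K p n → p ≠ 3 → 5 ≤ p ^ n →
    ∀ (Γ : Subgroup (MulAut (Qa K))) (D : Subgroup (MulAut (GU K))), Par p (Qa K) Γ D → Full D →
    (∃ γ ∈ Γ, ∀ g : Qa K, ((γ g : Qa K) : GU K).b = (g : GU K).e ∧ ((γ g : Qa K) : GU K).c = - (g : GU K).d ∧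
      ((γ g : Qa K) : GU K).d = (g : GU K).c ∧ ((γ g : Qa K) : GU K).e = - (g : GU K).b) →
    (∀ γ ∈ Γ, ∃ l ∈ Gen IsWa D, NormAut ⊤ (l * γ)) →
    Γ = Gen IsWa D

/-- (WALG) the algebra: a `K`-linear antidiagonal isometry `w` such that `x(1) w x(r) w⁻¹ x(1)` is antidiagonal; then this product is
the standard Weyl matrix -/
def StWAlg : Prop :=
  ∀ {K : Type u} [Field K], (3 : K) ≠ 0 → ∀ (x y z t r : K), x ≠ 0 → y ≠ 0 → z ≠ 0 → t ≠ 0 →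
    (let w : Matrix (Fin 4) (Fin 4) K := !![0, 0, 0, x; 0, 0, y, 0; 0, z, 0, 0; t, 0, 0, 0]
     let w' : Matrix (Fin 4) (Fin 4) K := !![0, 0, 0, t⁻¹; 0, 0, z⁻¹, 0; 0, y⁻¹, 0, 0; x⁻¹, 0, 0, 0]
     w.transpose * Om * w = Om →
     (∀ i j : Fin 4, (i : ℕ) + (j : ℕ) ≠ 3 → (Xm 1 * (w * Xm r * w') * Xm 1 : Matrix (Fin 4) (Fin 4) K) i j = 0) →
     Xm 1 * (w * Xm r * w') * Xm 1 = !![0, 0, 0, 1; 0, 0, -1, 0; 0, 1, 0, 0; -1, 0, 0, 0])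

/-- (La5) `p ≥ 5`, `q ≥ 8`; (La2) `p = 2`, `q ≥ 8`; `Γ` does not leave `Z₂` or `Z₃` invariant (core-freeness) -/
def StLaP (P : ℕ → ℕ → Prop) : Prop :=
  ∀ {K : Type u} [Field K] {p n : ℕ}, HypG K p n → P p n → 8 ≤ p ^ n →
    ∀ (Γ : Subgroup (MulAut (Qa K))) (D : Subgroup (MulAut (GU K))), Par p (Qa K) Γ D →
    HasTor D (fun t => t⁻¹) (fun t => t ^ 2) → ¬ Inv Γ (Z2 K) → ¬ Inv Γ (Z3 K) →
    HasTor D (fun t => t ^ 2) (fun t => (t ^ 3)⁻¹) ∧ (Full D → Γ = Gen IsWa D)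

/-! ### `q = 4` -/

/-- the swap automorphism for `q = 4` -/
structure IsSw {K : Type u} [Field K] (α : MulAut (GU K)) : Prop where
  a : ∀ g : GU K, (α g).a = g.a ^ 2
  b : ∀ g : GU K, (α g).b = g.b
  c : ∀ g : GU K, (α g).c = g.d
  d : ∀ g : GU K, (α g).d = g.c
  e : ∀ g : GU K, (α g).e = g.e
  f : ∀ g : GU K, (α g).f = g.f + g.c * g.d + g.e ^ 2

/-- the central automorphism for `q = 4`: `x_β(v) ↦ x_β(v) x_{3α+2β}(k v²)` -/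
structure IsCe4 {K : Type u} [Field K] (k : K) (α : MulAut (GU K)) : Prop where
  a : ∀ g : GU K, (α g).a = g.a
  b : ∀ g : GU K, (α g).b = g.b
  c : ∀ g : GU K, (α g).c = g.c
  d : ∀ g : GU K, (α g).d = g.d
  e : ∀ g : GU K, (α g).e = g.e
  f : ∀ g : GU K, (α g).f = g.f + k * g.b ^ 2

/-- `q = 4`: the automorphisms -/
def StAut4 : Prop :=
  ∀ {K : Type u} [Field K], HypG K 2 2 → (∃ α : MulAut (GU K), IsSw α) ∧ (∀ k : K, ∃ α : MulAut (GU K), IsCe4 k α)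

/-- `q = 4`, `Q_b`: the `Γ`-invariant subgroup is `Z₃` or its image under the swap -/
def StLb4a : Prop :=
  ∀ {K : Type u} [Field K], HypG K 2 2 →
    ∀ (Γ : Subgroup (MulAut (Qb K))) (D : Subgroup (MulAut (GU K))), Par 2 (Qb K) Γ D →
    Inv Γ (Z3 K) ∨ (∀ γ ∈ Γ, ∀ g : Qb K, (g : GU K).a = 0 → (g : GU K).d = 0 →
      ((γ g : Qb K) : GU K).a = 0 ∧ ((γ g : Qb K) : GU K).d = 0)

/-- `q = 4`, `Q_b`, `Z₃` invariant -/
def StLb4b : Prop :=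
  ∀ {K : Type u} [Field K], HypG K 2 2 →
    ∀ (Γ : Subgroup (MulAut (Qb K))) (D : Subgroup (MulAut (GU K))), Par 2 (Qb K) Γ D → Inv Γ (Z3 K) →
    HasTor D (fun t => t⁻¹) (fun t => t ^ 2) ∧ (Full D → Γ = Gen IsWb D)

/-- `q = 4`, `Q_a` -/
def StLa4 : Prop :=
  ∀ {K : Type u} [Field K], HypG K 2 2 →
    ∀ (Γ : Subgroup (MulAut (Qa K))) (D : Subgroup (MulAut (GU K))), Par 2 (Qa K) Γ D →
    HasTor D (fun t => t ^ 2) (fun t => (t ^ 3)⁻¹) ∧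
    (Full D → ∃ k : K, ∀ γ : MulAut (Qa K), γ ∈ Γ ↔ ∃ δ ∈ Gen IsWa D, ∀ α : MulAut (GU K), IsCe4 k α →
      ∀ g g' : Qa K, (g' : GU K) = α g → α ((δ g : Qa K) : GU K) = (γ g' : Qa K))

/-! ### `q = 3` -/

/-- the central automorphisms for `q = 3`: `x_α(u) ↦ x_α(u) x_{3α+2β}(k u)`, `x_β(v) ↦ x_β(v) x_{2α+β}(k' v)` -/
structure IsCe3 {K : Type u} [Field K] (k k' : K) (α : MulAut (GU K)) : Prop where
  a : ∀ g : GU K, (α g).a = g.a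
  b : ∀ g : GU K, (α g).b = g.b
  c : ∀ g : GU K, (α g).c = g.c
  d : ∀ g : GU K, (α g).d = g.d + k' * g.b
  e : ∀ g : GU K, (α g).e = g.e
  f : ∀ g : GU K, (α g).f = g.f + k * g.a

def StAut3 : Prop :=
  ∀ {K : Type u} [Field K], HypG K 3 1 → ∀ k k' : K, ∃ α : MulAut (GU K), IsCe3 k k' α

/-- `q = 3`, `Q_b` -/
def StLb3 : Prop :=
  ∀ {K : Type u} [Field K], HypG K 3 1 →
    ∀ (Γ : Subgroup (MulAut (Qb K))) (D : Subgroup (MulAut (GU K))), Par 3 (Qb K) Γ D →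
    HasTor D (fun t => t⁻¹) (fun t => t ^ 2) ∧
    (Full D → ∃ k : K, ∀ γ : MulAut (Qb K), γ ∈ Γ ↔ ∃ δ ∈ Gen IsWb D, ∀ α : MulAut (GU K), IsCe3 k 0 α →
      ∀ g g' : Qb K, (g' : GU K) = α g → α ((δ g : Qb K) : GU K) = (γ g' : Qb K))

/-- `q = 3`, `Q_a` -/
def StLa3 : Prop :=
  ∀ {K : Type u} [Field K], HypG K 3 1 →
    ∀ (Γ : Subgroup (MulAut (Qa K))) (D : Subgroup (MulAut (GU K))), Par 3 (Qa K) Γ D →
    HasTor D (fun t => t ^ 2) (fun t => (t ^ 3)⁻¹) ∧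
    (Full D → ∃ k : K, ∀ γ : MulAut (Qa K), γ ∈ Γ ↔ ∃ δ ∈ Gen IsWa D, ∀ α : MulAut (GU K), IsCe3 0 k α →
      ∀ g g' : Qa K, (g' : GU K) = α g → α ((δ g : Qa K) : GU K) = (γ g' : Qa K))

end Cfsg.Agent.H779.G2
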