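import Cfsg.Agent.H779.G2.Stmts3

/-!
# S5211: statements, fourth part (`q = 2`)
-/

set_option autoImplicit false

namespace Cfsg.Agent.H779.G2

open Cfsg Cfsg.FusionSystem Cfsg.Agent.H756.PU

universe u v

/-- (Q2-E) `q = 2`: the essential subgroups -/
def StE21 : Prop :=
  ∀ {K : Type u} [Field K] [Fact (Nat.Prime 2)], HypG K 2 1 →
    ∀ (F : FusionSystem (⊤ : Subgroup (GU K))), F.IsSaturated 2 → ∀ E, F.IsEssential 2 E → E = Qa K ∨ E = Qb K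

/-- (Q2-AUT) `q = 2`: `Aut(S)` is a `2`-group, `Q_a` and `Q_b` are characteristic -/
def StAut2 : Prop :=
  ∀ {K : Type u} [Field K], HypG K 2 1 → (∀ α : MulAut (GU K), ∃ k : ℕ, α ^ 2 ^ k = 1) ∧
    (∀ α : MulAut (GU K), (Qa K).map α.toMonoidHom = Qa K ∧ (Qb K).map α.toMonoidHom = Qb K)

/-- `γ ∈ Aut(Q_a)` acts on `Q_a/Z₁ = K⁴` by the matrix `M` -/
def LinA {K : Type u} [Field K] (M : Matrix (Fin 4) (Fin 4) K) (γ : MulAut (Qa K)) : Prop :=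
  ∀ g : Qa K, ![((γ g : Qa K) : GU K).b, ((γ g : Qa K) : GU K).c, ((γ g : Qa K) : GU K).d, ((γ g : Qa K) : GU K).e] =
    M.mulVec ![(g : GU K).b, (g : GU K).c, (g : GU K).d, (g : GU K).e]

/-- the subgroup generated by `Aut_S(Q_a)` and the automorphisms acting by matrices in `X` -/
def GenR {K : Type u} [Field K] (X : Set (Matrix (Fin 4) (Fin 4) K)) : Subgroup (MulAut (Qa K)) :=
  Subgroup.closure ((autInducedBy ⊤ (Qa K) : Set (MulAut (Qa K))) ∪ {γ | ∃ M ∈ X, LinA M γ})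

/-- order three on the first tensor factor -/
def R1m {K : Type u} [Field K] : Matrix (Fin 4) (Fin 4) K := !![0, 1, 0, 0; 1, 1, 0, 0; 0, 0, 0, 1; 0, 0, 1, 1]
/-- order three on the second tensor factor -/
def R2m {K : Type u} [Field K] : Matrix (Fin 4) (Fin 4) K := !![0, 0, 1, 0; 0, 0, 0, 1; 1, 0, 1, 0; 0, 1, 0, 1]

/-- the hypotheses on `Γ = Aut_F(Q)` for `q = 2` -/
structure Par2 {K : Type u} [Field K] {Q : Subgroup (GU K)} (Γ : Subgroup (MulAut Q)) : Prop where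
  indu : autInducedBy ⊤ Q ≤ Γ
  syl : ∀ P : Subgroup (MulAut Q), P ≤ Γ → IsPGroup 2 P → ∃ g ∈ Γ, ∀ x ∈ P, g * x * g⁻¹ ∈ autInducedBy ⊤ Q
  nn : ¬ ∀ γ ∈ Γ, NormAut ⊤ γ

/-- (Q2-GA) the five possibilities for `Aut_F(Q_a)` -/
def StGa2 : Prop :=
  ∀ {K : Type u} [Field K], HypG K 2 1 → ∀ Γ : Subgroup (MulAut (Qa K)), Par2 Γ →
    (Γ = GenR {R1m} ∨ Γ = GenR {R2m} ∨ Γ = GenR {R1m * R2m} ∨ Γ = GenR {R1m * R2m * R2m} ∨ Γ = GenR {R1m, R2m})

/-- `Γ' = θ Γ θ⁻¹` for subgroups of `Aut(Q)`, `θ ∈ Aut(S)`, `θ(Q) = Q` -/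
def ConjOn {K : Type u} [Field K] {Q : Subgroup (GU K)} (θ : MulAut (GU K)) (Γ Γ' : Subgroup (MulAut Q)) : Prop :=
  ∀ γ : MulAut Q, γ ∈ Γ' ↔ ∃ δ ∈ Γ, ∀ g g' : Q, (g' : GU K) = θ g → θ ((δ g : Q) : GU K) = (γ g' : Q)

/-- (Q2-GB) the possibilities for `Aut_F(Q_b)` are conjugate under `Aut(S)` -/
def StGb2 : Prop :=
  ∀ {K : Type u} [Field K], HypG K 2 1 → ∀ Γ : Subgroup (MulAut (Qb K)), Par2 Γ →
    ∃ θ : MulAut (GU K), ConjOn θ Γ (Gen IsWb ⊥)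

/-- (Q2-SW) an automorphism of `S` normalizing the standard `Aut_F(Q_b)` and swapping the two diagonal possibilities; the standard
one is the diagonal one of the first or of the second kind -/
def StSw2 : Prop :=
  ∀ {K : Type u} [Field K], HypG K 2 1 →
    (∃ θ : MulAut (GU K), ConjOn θ (Gen IsWb ⊥ : Subgroup (MulAut (Qb K))) (Gen IsWb ⊥) ∧
      ConjOn θ (GenR {R1m * R2m} : Subgroup (MulAut (Qa K))) (GenR {R1m * R2m * R2m}) ∧
      ConjOn θ (GenR {R1m * R2m * R2m} : Subgroup (MulAut (Qa K))) (GenR {R1m * R2m})) ∧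
    ((Gen IsWa ⊥ : Subgroup (MulAut (Qa K))) = GenR {R1m * R2m} ∨
      (Gen IsWa ⊥ : Subgroup (MulAut (Qa K))) = GenR {R1m * R2m * R2m})

/-- (Q2-M12) a realizable core-free system with `Out_F(Q_a)` of order `6`, whose elements of order three act fixed point freely on
`Q_a / Z₁` (realized by `M₁₂`) -/
def StRM12 : Prop :=
  ∀ {K : Type u} [Field K] [Fact (Nat.Prime 2)], HypG K 2 1 →
    ∃ F : FusionSystem (⊤ : Subgroup (GU K)), F.IsSaturated 2 ∧ F.IsRealizable 2 ∧ F.core = ⊥ ∧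
      Nat.card (F.autGroup (Qa K)) = 96 ∧
      (∃ γ ∈ F.autGroup (Qa K), orderOf γ = 3 ∧ ∀ g : Qa K, γ g = g → (g : GU K) ∈ Z1 K) ∧
      (¬ ∀ γ ∈ F.autGroup (Qb K), NormAut (⊤ : Subgroup (GU K)) γ)

/-- (Q2-G23) a realizable core-free system with `Out_F(Q_a)` of order `18` (realized by `G₂(3)`) -/
def StRG23 : Prop :=
  ∀ {K : Type u} [Field K] [Fact (Nat.Prime 2)], HypG K 2 1 →
    ∃ F : FusionSystem (⊤ : Subgroup (GU K)), F.IsSaturated 2 ∧ F.IsRealizable 2 ∧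
      Nat.card (F.autGroup (Qa K)) = 288 ∧
      (¬ ∀ γ ∈ F.autGroup (Qb K), NormAut (⊤ : Subgroup (GU K)) γ)

end Cfsg.Agent.H779.G2
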