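import Cfsg.Agent.H779.G2.Stmts

/-!
# S5211: statements, second part
-/

set_option autoImplicit false

namespace Cfsg.Agent.H779.G2

open Cfsg Cfsg.FusionSystem Cfsg.Agent.H756.PU

universe u v

/-- (TORUS) addition to the engine: in the situation of `StFF` (any `p`) the torus of `L ≅ SL₂(F)`: `φ₁` identifies `C/D` with `F`,
`φ₂` identifies `M/C` with `F`, where `C = cmod A M N` -/
def StTorus : Prop :=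
  ∀ {Ω : Type u} [Group Ω] {S E : Subgroup Ω} {p : ℕ} {Γ : Subgroup (MulAut E)}, Ess S E p Γ →
    ∀ N M X A : Subgroup Ω, Inv Γ N → Inv Γ M → N ≤ M → X ≤ M → Com E M N → (∀ m ∈ M, m ^ p ∈ N) →
    M = hull Γ X ⊔ N → Com (normalizerIn S E) X N →
    A ≤ normalizerIn S E → ¬ A ≤ E → Com A A E → (∀ x ∈ A, x ^ p ∈ E) → Com A E M →
    (∀ x ∈ A, ∀ m ∈ N, x * m = m * x) →
    (cmod A M N).relIndex M ≤ E.relIndex A →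
    ∃ D : Subgroup Ω, Inv Γ D ∧ N ≤ D ∧ D ≤ cmod A M N ∧ cmod A M N ≤ M ∧ Com (normalizerIn S E) D N ∧
    D.relIndex M = (E.relIndex A) ^ 2 ∧
    ∃ (F : Type) (_ : Field F) (_ : Fintype F) (φ₁ φ₂ : Ω → F), Fintype.card F = E.relIndex A ∧ CharP F p ∧
      (∀ x ∈ cmod A M N, ∀ y ∈ cmod A M N, φ₁ (x * y) = φ₁ x + φ₁ y) ∧ (∀ x ∈ cmod A M N, φ₁ x = 0 ↔ x ∈ D) ∧
      (∀ x ∈ M, ∀ y ∈ M, φ₂ (x * y) = φ₂ x + φ₂ y) ∧ (∀ x ∈ M, φ₂ x = 0 ↔ x ∈ cmod A M N) ∧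
      ∀ l : F, l ≠ 0 → ∃ γ ∈ Subgroup.closure {x : MulAut E | ∃ g ∈ Γ, ∃ y ∈ autInducedBy S E, x = g * y * g⁻¹},
        γ ∈ Γ ∧ (orderOf γ).Coprime p ∧ NormAut S γ ∧
        (∀ m : E, (m : Ω) ∈ cmod A M N → φ₁ (γ m : E) = l * φ₁ (m : Ω)) ∧
        (∀ m : E, (m : Ω) ∈ M → φ₂ (γ m : E) = l⁻¹ * φ₂ (m : Ω))

/-- (Lb0) for `p = 3` a non-closed `Γ = Aut_F(Q_b)` acts faithfully modulo `Inn` on `Q_b / Z₃` and moves `J = Z₄` -/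
def StLb0 : Prop :=
  ∀ {K : Type u} [Field K] {n : ℕ}, HypG K 3 n →
    ∀ (Γ : Subgroup (MulAut (Qb K))), autInducedBy ⊤ (Qb K) ≤ Γ →
    (∀ P : Subgroup (MulAut (Qb K)), P ≤ Γ → IsPGroup 3 P → ∃ g ∈ Γ, ∀ x ∈ P, g * x * g⁻¹ ∈ autInducedBy ⊤ (Qb K)) →
    (¬ ∀ γ ∈ Γ, NormAut ⊤ γ) →
    (∀ γ ∈ Γ, NormAut ⊤ γ → ∃ α : MulAut (GU K), IsR α γ) →
    (∀ γ ∈ Γ, (∀ g : Qb K, ((γ g : Qb K) : GU K).a = (g : GU K).a ∧ ((γ g : Qb K) : GU K).c = (g : GU K).c) → γ ∈ Inn (Qb K)) ∧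
    (∃ γ ∈ Γ, ∃ g : Qb K, (g : GU K).a = 0 ∧ ((γ g : Qb K) : GU K).a ≠ 0)

/-- (E5d), (E5e), (E5f): the three classes of subgroups killed by extension -/
def StE5d : Prop :=
  ∀ {K : Type u} [Field K] {p n : ℕ} [Fact p.Prime], HypG K p n → 5 ≤ p →
    ∀ (F : FusionSystem (⊤ : Subgroup (GU K))), F.IsSaturated p → ∀ E, F.IsEssential p E → ¬ Z3 K ≤ E → E ≤ Qb K →
    ¬ E ≤ Qa K → False

def StE5e : Prop :=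
  ∀ {K : Type u} [Field K] {p n : ℕ} [Fact p.Prime], HypG K p n → 5 ≤ p →
    ∀ (F : FusionSystem (⊤ : Subgroup (GU K))), F.IsSaturated p → ∀ E, F.IsEssential p E → Z2 K ≤ E → ¬ Z3 K ≤ E →
    ¬ E ≤ Qb K → ¬ E ≤ Qa K → False

def StE5f : Prop :=
  ∀ {K : Type u} [Field K] {p n : ℕ} [Fact p.Prime], HypG K p n → 5 ≤ p → ¬ (p = 7 ∧ n = 1) →
    ∀ (F : FusionSystem (⊤ : Subgroup (GU K))), F.IsSaturated p → ∀ E, F.IsEssential p E → ¬ Z2 K ≤ E → E ≤ Qa K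

/-- (E3-1) `p = 3`, `J ≤ E` -/
def StE31 : Prop :=
  ∀ {K : Type u} [Field K] {n : ℕ}, HypG K 3 n →
    ∀ {E : Subgroup (GU K)} {Γ : Subgroup (MulAut E)}, Ess (⊤ : Subgroup (GU K)) E 3 Γ → Z4 K ≤ E → E = Qa K ∨ E = Qb K

/-- (E3-2) `p = 3`, `J ≰ E` -/
def StE32 : Prop :=
  ∀ {K : Type u} [Field K] {n : ℕ} [Fact (Nat.Prime 3)], HypG K 3 n →
    ∀ (F : FusionSystem (⊤ : Subgroup (GU K))), F.IsSaturated 3 → ∀ E, F.IsEssential 3 E → Z4 K ≤ E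

end Cfsg.Agent.H779.G2
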