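import Cfsg.Agent.H24.Q5.Main
import Cfsg.Agent.H771.GT.MainThree
import Cfsg.Agent.H771.GT.MainFour
import Cfsg.Agent.H771.GT.WFin
import Cfsg.Agent.H771.GT.WAlg
import Cfsg.Agent.H771.GT.Sem
import Cfsg.Agent.H752.GT.ETwoC
import Cfsg.Agent.H839.GT.ETwoB
import Cfsg.Agent.H103.GT.Main
import Cfsg.Agent.H103.GT.Lb
import Cfsg.Agent.H103.GT.UTwoP
import Cfsg.Agent.H758.GT.Res
import Cfsg.Agent.H650.GU.Real
import Cfsg.Agent.H199.GT.Pos
import Cfsg.Agent.H294.G2.TI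
import Cfsg.Agent.H294.G2.EvFin
import Cfsg.Agent.H294.G2.LaFour
import Cfsg.Agent.H446.GT.E5
import Cfsg.Agent.H446.GT.QThreeC
import Cfsg.Agent.H904.GT.LaThree
import Cfsg.Agent.H949.GT.NegTorus
import Cfsg.Agent.H949.GT.RankOne
import Cfsg.Agent.H297.GT.LaTwo
import Cfsg.Agent.H758.GT.Ext
import Cfsg.Agent.H710.GT.EFiveC
import Cfsg.Agent.H753.GT.EFiveD
import Cfsg.Agent.H15.GT.EFiveE
import Cfsg.Agent.H15.GT.EFiveF
import Cfsg.Agent.H647.GT.E5b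
import Cfsg.Agent.H647.GT.EThree
import Cfsg.Agent.H428.GT.LbZero3
import Cfsg.Agent.H428.U2.StCon
import Cfsg.Agent.H403.GT.Ea
import Cfsg.Agent.H302.GT.Kb
import Cfsg.Agent.H775.PU.BoundFin
import Cfsg.Agent.H659.PU.Over
import Cfsg.Agent.H910.G2.UTwo
import Cfsg.Agent.H835.P4.Rk
import Cfsg.Agent.H242.GT.ETwoOne
import Cfsg.Agent.H809.GT.Aut2
import Cfsg.Agent.H809.GT.Ga2Main
import Cfsg.Agent.H505.GT.Gb2
import Cfsg.Agent.H505.GT.Sw2
import Cfsg.Agent.H675.GT.MTwMain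
import Cfsg.Agent.H234.GT.Main
import Cfsg.Agent.H270.GT.Main2

/-!
# S5211: the assembly (helper779; pieces by the team of hub S5211)
-/

set_option autoImplicit false

namespace Cfsg.Agent.H779.G2

open Cfsg Cfsg.FusionSystem Cfsg.Agent.H756.PU

universe u

theorem stDual : StDual.{u} := H302.GT.dual_of H775.PU.b3083

theorem stKB : StKB.{u} := H302.GT.kb_of H775.PU.b3083

theorem stE2 : StE2.{u} :=
  H752.GT.stE2_of H103.GT.stGrp H245.PU.stEss H659.PU.stOver H294.G2.stTI (H403.GT.stEa stDual)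
    (H839.GT.stE2b_of H775.PU.stBound') (H752.GT.stE2c stKB)

theorem stE5e : StE5e.{u} :=
  H15.GT.stE5e H103.GT.stGrp H245.PU.stEss H659.PU.stOver H294.G2.stTI H775.PU.stBound' H949.GT.stNeg H758.GT.stExt
    H758.GT.stNExt

theorem stE5 : StE5.{u} :=
  H446.GT.stE5 H103.GT.stGrp H245.PU.stEss H659.PU.stOver H294.G2.stTI (H403.GT.stEa stDual)
    (H647.GT.stE5b H949.GT.stNeg stDual) H710.GT.stE5c H753.GT.stE5d stE5e
    (H15.GT.stE5f H103.GT.stGrp H245.PU.stEss H659.PU.stOver H294.G2.stTI H775.PU.stBound' H949.GT.stTorus H758.GT.stExt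
      H758.GT.stNExt stE5e)

theorem pieces : H103.GT.Pieces.{u} where
  e5 := stE5
  e3 := H647.GT.stE3 H775.PU.stBound stDual
  e2 := stE2
  ti := H294.G2.stTI
  pos := H199.GT.stPos H294.G2.stTI

theorem stMainTwo : StMain2.{u} :=
  H270.GT.stMain2 (H242.GT.stE21_of H775.PU.stBound' H245.PU.stEss H659.PU.stOver) H809.GT.stAut2 H809.GT.stGa2
    H505.GT.stGb2 H505.GT.stSw2 H675.GT.stRM12 H234.GT.stRG23

theorem stMainThree : StMain3.{u} :=
  H771.GT.stMain3_of ⟨pieces, H650.GR.stReal, H446.GT.stAut3, H428.GT.stLb0, H446.GT.stLb3 H428.GT.stLb0,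
    H904.GT.LaThree.stLa3 (H446.GT.stLb3 H428.GT.stLb0)⟩

theorem stMainFour : StMain4.{u} :=
  H771.GT.stMain4_of ⟨pieces, H650.GR.stReal, H294.G2.Ev.stAut4, H294.G2.Ev.stLb4a, H294.G2.Ev.stLb4b,
    H294.G2.Four.stLa4⟩

theorem stMainBig : StMainBig.{0} :=
  H103.GT.stMainBig_of' pieces H103.GT.stLb
    (H949.GT.stLa5 H771.GT.stWAlg H771.GT.stWFin1 H771.GT.stSem H294.G2.stTI
      (H949.GT.StU2W.of (H910.G2.stU2_of H835.P4.outSt H835.P4.tiSt)) (H103.GT.stU2PW_of H758.GT.stRes H428.U2.stCon))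
    (H297.GT.stLaTwo H771.GT.stSem H771.GT.stWFin1) H650.GR.stReal

theorem final {Ω : Type u} [Group Ω] {S : Subgroup Ω} [Finite S] (p : ℕ) [Fact p.Prime]
    (F : Cfsg.FusionSystem S) (hF : F.IsSaturated p) (n : ℕ) (hn : n ≠ 0) (h7 : ¬ (p = 7 ∧ n = 1))
    (T : Sylow p ↥(Cfsg.Lie.G2 (GaloisField p n))) (e : ↥S ≃* ↥(T : Subgroup ↥(Cfsg.Lie.G2 (GaloisField p n))))
    (hcore : F.core = ⊥) : F.IsRealizable p :=
  H103.GT.final_of H650.G.stSyl stMainBig (H24.Q5.stMain5 pieces) stMainFour stMainThree stMainTwo p F hF n hn h7 T e hcore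

end Cfsg.Agent.H779.G2
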