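import Mathlib

/-!
# S5211: the concrete Sylow `p`-subgroup `GU K` of `G₂(K)`

The element `(a, b, c, d, e, f)` is `x_α(a) x_β(b) x_{α+β}(c) x_{2α+β}(d) x_{3α+β}(e) x_{3α+2β}(f)`, `α` the short and `β`
the long simple root.
-/

set_option autoImplicit false

namespace Cfsg.Agent.H779.G2

universe u

/-- the unipotent group of type `G₂` over `K` -/
@[ext] structure GU (K : Type u) [Field K] where
  a : K
  b : K
  c : K
  d : K
  e : K
  f : K

namespace GU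

variable {K : Type u} [Field K]

instance : Mul (GU K) := ⟨fun x y =>
  { a := x.a + y.a
    b := x.b + y.b
    c := x.c + y.c + x.b * y.a
    d := x.d + y.d + 2 * x.c * y.a + x.b * y.a ^ 2
    e := x.e + y.e + 3 * x.d * y.a + 3 * x.c * y.a ^ 2 + x.b * y.a ^ 3
    f := x.f + y.f + 3 * x.d * y.c - x.e * y.b + 6 * x.c * y.a * y.c + 3 * x.c ^ 2 * y.a - 3 * x.d * y.a * y.b
      + 3 * x.b * x.c * y.a ^ 2 + 3 * x.b * y.a ^ 2 * y.c - 3 * x.c * y.a ^ 2 * y.b - x.b * y.a ^ 3 * y.b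
      + x.b ^ 2 * y.a ^ 3 }⟩

instance : One (GU K) := ⟨⟨0, 0, 0, 0, 0, 0⟩⟩

instance : Inv (GU K) := ⟨fun x =>
  { a := - x.a
    b := - x.b
    c := - x.c + x.a * x.b
    d := - x.d + 2 * x.a * x.c - x.a ^ 2 * x.b
    e := - x.e + 3 * x.a * x.d - 3 * x.a ^ 2 * x.c + x.a ^ 3 * x.b
    f := - x.f - x.b * x.e + 3 * x.c * x.d - 3 * x.a * x.c ^ 2 + 3 * x.a ^ 2 * x.b * x.c - x.a ^ 3 * x.b ^ 2 }⟩

@[simp] theorem mul_a (x y : GU K) : (x * y).a = x.a + y.a := rfl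
@[simp] theorem mul_b (x y : GU K) : (x * y).b = x.b + y.b := rfl
@[simp] theorem mul_c (x y : GU K) : (x * y).c = x.c + y.c + x.b * y.a := rfl
@[simp] theorem mul_d (x y : GU K) : (x * y).d = x.d + y.d + 2 * x.c * y.a + x.b * y.a ^ 2 := rfl
@[simp] theorem mul_e (x y : GU K) :
    (x * y).e = x.e + y.e + 3 * x.d * y.a + 3 * x.c * y.a ^ 2 + x.b * y.a ^ 3 := rfl
@[simp] theorem mul_f (x y : GU K) : (x * y).f =
    x.f + y.f + 3 * x.d * y.c - x.e * y.b + 6 * x.c * y.a * y.c + 3 * x.c ^ 2 * y.a - 3 * x.d * y.a * y.b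
      + 3 * x.b * x.c * y.a ^ 2 + 3 * x.b * y.a ^ 2 * y.c - 3 * x.c * y.a ^ 2 * y.b - x.b * y.a ^ 3 * y.b
      + x.b ^ 2 * y.a ^ 3 := rfl
@[simp] theorem one_a : (1 : GU K).a = 0 := rfl
@[simp] theorem one_b : (1 : GU K).b = 0 := rfl
@[simp] theorem one_c : (1 : GU K).c = 0 := rfl
@[simp] theorem one_d : (1 : GU K).d = 0 := rfl
@[simp] theorem one_e : (1 : GU K).e = 0 := rfl
@[simp] theorem one_f : (1 : GU K).f = 0 := rfl
@[simp] theorem inv_a (x : GU K) : (x⁻¹).a = - x.a := rfl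
@[simp] theorem inv_b (x : GU K) : (x⁻¹).b = - x.b := rfl
@[simp] theorem inv_c (x : GU K) : (x⁻¹).c = - x.c + x.a * x.b := rfl
@[simp] theorem inv_d (x : GU K) : (x⁻¹).d = - x.d + 2 * x.a * x.c - x.a ^ 2 * x.b := rfl
@[simp] theorem inv_e (x : GU K) :
    (x⁻¹).e = - x.e + 3 * x.a * x.d - 3 * x.a ^ 2 * x.c + x.a ^ 3 * x.b := rfl
@[simp] theorem inv_f (x : GU K) : (x⁻¹).f =
    - x.f - x.b * x.e + 3 * x.c * x.d - 3 * x.a * x.c ^ 2 + 3 * x.a ^ 2 * x.b * x.c - x.a ^ 3 * x.b ^ 2 := rfl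

instance : Group (GU K) where
  mul_assoc x y z := by
    ext
    · simp [add_assoc]
    · simp [add_assoc]
    · simp only [mul_a, mul_b, mul_c]; ring
    · simp only [mul_a, mul_b, mul_c, mul_d]; ring
    · simp only [mul_a, mul_b, mul_c, mul_d, mul_e]; ring
    · simp only [mul_a, mul_b, mul_c, mul_d, mul_e, mul_f]; ring
  one_mul x := by ext <;> simp
  mul_one x := by ext <;> simp
  inv_mul_cancel x := by
    ext
    · simp
    · simp
    · simp only [mul_c, inv_c, inv_b, one_c]; ring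
    · simp only [mul_d, inv_c, inv_b, inv_d, one_d]; ring
    · simp only [mul_e, inv_c, inv_b, inv_d, inv_e, one_e]; ring
    · simp only [mul_f, inv_c, inv_b, inv_d, inv_e, inv_f, one_f]; ring

/-- the coordinates as an equivalence with `K⁶` -/
def equivProd : GU K ≃ K × K × K × K × K × K where
  toFun x := (x.a, x.b, x.c, x.d, x.e, x.f)
  invFun y := ⟨y.1, y.2.1, y.2.2.1, y.2.2.2.1, y.2.2.2.2.1, y.2.2.2.2.2⟩
  left_inv x := rfl
  right_inv y := rfl

instance [Finite K] : Finite (GU K) := Finite.of_equiv _ equivProd.symm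

theorem card_eq [Finite K] : Nat.card (GU K) = Nat.card K ^ 6 := by
  rw [Nat.card_congr equivProd]
  simp only [Nat.card_prod]
  ring

end GU

end Cfsg.Agent.H779.G2
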