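import Cfsg.Agent.H24.Q5.Mat

/-!
# S5211, block `q = 5`: `StM` from `StM1`, ..., `StM6` (helper779)
-/

set_option autoImplicit false

namespace Cfsg.Agent.H779.G2

open Cfsg.Agent.H24.Q5 Matrix

theorem le_of_mem {L : Subgroup M5ˣ} (hL : Hyp L) {g : M5ˣ} (hg : g ∈ L) : Subgroup.closure {gA, g} ≤ L := by
  rw [Subgroup.closure_le]
  rintro x (rfl | rfl)
  · exact hL.memA
  · exact hg

theorem eq_of_le {L L' : Subgroup M5ˣ} (h : L' ≤ L) (hc : Nat.card L ≤ Nat.card L') : L = L' :=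
  (Subgroup.eq_of_le_of_card_ge h hc).symm

theorem card_le_of {L L' : Subgroup M5ˣ} (h : L' ≤ L) : Nat.card L' ≤ Nat.card L :=
  Nat.le_of_dvd Nat.card_pos (Subgroup.card_dvd_of_le h)

theorem gh2_pow : gh2 ^ 4 = 1 := by
  apply Units.ext
  rw [Units.val_pow_eq_pow_val, Units.val_one]
  exact mh24

theorem cub (g r : M5ˣ) : g ^ 3 * r * (g ^ 3)⁻¹ = g * (g * (g * r * g⁻¹) * g⁻¹) * g⁻¹ := by
  simp only [pow_succ, pow_zero, one_mul, _root_.mul_inv_rev, mul_assoc]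

theorem cub' (g r : M5ˣ) : g⁻¹ ^ 3 * r * (g⁻¹ ^ 3)⁻¹ = g⁻¹ * (g⁻¹ * (g⁻¹ * r * g) * g) * g := by
  simp only [pow_succ, pow_zero, one_mul, _root_.mul_inv_rev, mul_assoc, inv_inv]

theorem stM_of (h2 : StM2) (h3 : StM3) (h4 : StM4) (h5 : StM5) (h6 : StM6) : StM := by
  intro L hL
  obtain ⟨⟨cS, cR, cC, cB, cP⟩, ⟨mS, mR, mC, mB, mP⟩, -, -, -, hP⟩ := h6
  have hcases := h2 L hL
  have hm1 : -1 ∈ L := by
    rcases hcases with h | h | h | h | h
    · exact le_of_mem hL h mS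
    · exact le_of_mem hL h mR
    · exact le_of_mem hL h mC
    · exact le_of_mem hL h mB
    · exact le_of_mem hL h mP
  rcases h3 L hL hm1 with ⟨R, hRL, hn, hR32, hR1, hsq, hcom, hfix, hinv, hcard⟩ | hc | hc
  · have hinv' : ∀ r ∈ R, gh2⁻¹ * r * gh2 ∈ R := by
      intro r hr
      have h1 : gh2⁻¹ * r * gh2 ∈ L := by
        have e : gh2⁻¹ = gh2 ^ 3 := by
          rw [inv_eq_iff_mul_eq_one, ← pow_succ']
          exact gh2_pow
        have e2 : gh2⁻¹ * r * gh2 = gh2 * (gh2 * (gh2 * r * gh2⁻¹) * gh2⁻¹) * gh2⁻¹ := by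
          have e3 : gh2 = (gh2 ^ 3)⁻¹ := by rw [← e, inv_inv]
          calc gh2⁻¹ * r * gh2 = gh2 ^ 3 * r * (gh2 ^ 3)⁻¹ := by rw [← e3, e]
            _ = _ := cub _ _
        rw [e2]
        exact hL.h2 _ (hL.h2 _ (hL.h2 _ (hRL hr)))
      refine hinv _ h1 ?_
      have e4 : gh2 * (gh2⁻¹ * r * gh2) * gh2⁻¹ = r := by group
      rw [e4]
      exact hr
    have hinv2 : ∀ r ∈ R, gh2 * r * gh2⁻¹ ∈ R := by
      intro r hr
      have e : gh2 = (gh2⁻¹) ^ 3 := by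
        have h5 : gh2 ^ 3 * gh2 = 1 := by rw [← pow_succ]; exact gh2_pow
        rw [inv_pow]
        exact eq_inv_of_mul_eq_one_right h5
      have e2 : gh2 * r * gh2⁻¹ = gh2⁻¹ * (gh2⁻¹ * (gh2⁻¹ * r * gh2) * gh2) * gh2 := by
        calc gh2 * r * gh2⁻¹ = (gh2⁻¹) ^ 3 * r * ((gh2⁻¹) ^ 3)⁻¹ := by rw [← e]
          _ = _ := cub' _ _
      rw [e2]
      exact hinv' _ (hinv' _ (hinv' _ hr))
    obtain ⟨a1, a2⟩ := h4 L R hL hRL hn hR32 hR1 hsq hcom hfix hinv2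
    rcases hcard with hc | hc
    · exact Or.inr (Or.inl ⟨hc, a1 hc⟩)
    · exact Or.inr (Or.inr (Or.inr ⟨hc, a2 hc⟩))
  · rcases hcases with h | h | h | h | h
    · exact Or.inl ⟨hc, eq_of_le (le_of_mem hL h) (hc.trans_le cS)⟩
    · have := card_le_of (le_of_mem hL h)
      change Nat.card LR ≤ _ at this
      omega
    · have := card_le_of (le_of_mem hL h)
      change Nat.card LC ≤ _ at this
      omega
    · have := card_le_of (le_of_mem hL h)
      change Nat.card LB ≤ _ at this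
      omega
    · exfalso
      have h7 : L = LP := eq_of_le (le_of_mem hL h) (hc.trans_le cP)
      exact hL.irr2 fun g hg => hP g (h7 ▸ hg)
  · exact Or.inr (Or.inr (Or.inl ⟨hc, eq_of_le (le_of_mem hL (h5 L hL hc)) (hc.trans_le cC)⟩))

end Cfsg.Agent.H779.G2
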